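import Groth.Agent.ValFlattenLib.Core
import Groth.Prelude.Def_BlowUp2

/-!
# Base change to an affine blow-up chart
-/

set_option autoImplicit false
set_option linter.style.haveILetI false
set_option linter.unusedSectionVars false
set_option backward.isDefEq.respectTransparency false
set_option maxHeartbeats 2000000
set_option synthInstance.maxHeartbeats 200000

universe u

open TensorProduct

noncomputable section

namespace Groth.Agent.ValFlattenLib

theorem exact_lTensor_subtype {D : Type u} [CommRing D] (D' : Type u) [CommRing D'] [Algebra D D'] {M : Type u}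
    [AddCommGroup M] [Module D M] (N : Submodule D M) :
    Function.Exact (N.subtype.lTensor D') (N.mkQ.lTensor D') :=
  lTensor_exact D' (LinearMap.exact_subtype_mkQ N) N.mkQ_surjective

theorem isSMulRegular_of_flat {S : Type u} [CommRing S] {X : Type u} [AddCommGroup X] [Module S X] [Module.Flat S X]
    {x : S} (hx : IsSMulRegular S x) : IsSMulRegular X x := by
  have h := Module.Flat.lTensor_preserves_injective_linearMap (M := X) (LinearMap.lsmul S S x) hx
  intro y z hyz
  refine (TensorProduct.rid S X).symm.injective (h ?_)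
  rw [TensorProduct.rid_symm_apply, TensorProduct.rid_symm_apply, LinearMap.lTensor_tmul,
    LinearMap.lTensor_tmul, LinearMap.lsmul_apply, smul_eq_mul, mul_one]
  calc y ⊗ₜ[S] x = (x • y) ⊗ₜ[S] (1 : S) := by rw [smul_tmul, smul_eq_mul, mul_one]
    _ = (x • z) ⊗ₜ[S] (1 : S) := congrArg (fun w => w ⊗ₜ[S] (1 : S)) hyz
    _ = z ⊗ₜ[S] x := by rw [smul_tmul, smul_eq_mul, mul_one]

/-- A flat quotient whose kernel is killed by `c` stays so over an extension, and there it is the quotient by
the torsion of any regular multiple of `c`. -/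
theorem flat_quot_powTorsion {R D D' M : Type u} [CommRing R] [CommRing D] [Algebra R D] [CommRing D']
    [Algebra R D'] [AddCommGroup M] [Module R M] (k : D →ₐ[R] D') (c : R) (N : Submodule D (D ⊗[R] M))
    (hflat : Module.Flat D ((D ⊗[R] M) ⧸ N)) (hN : ∀ z ∈ N, algebraMap R D c • z = 0)
    (a : R) (hca : c ∣ a) (ha : ∀ y : D', algebraMap R D' a * y = 0 → y = 0) :
    Module.Flat D' ((D' ⊗[R] M) ⧸ FlatCA.powTorsion D' (algebraMap R D' a) (D' ⊗[R] M)) := by
  letI : Algebra D D' := k.toRingHom.toAlgebra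
  haveI : IsScalarTower R D D' := .of_algebraMap_eq fun r => (k.commutes r).symm
  let e : D' ⊗[D] (D ⊗[R] M) ≃ₗ[D'] D' ⊗[R] M := AlgebraTensorModule.cancelBaseChange R D D' D' M
  let q : D' ⊗[D] (D ⊗[R] M) →ₗ[D'] D' ⊗[D] ((D ⊗[R] M) ⧸ N) := AlgebraTensorModule.lTensor D' D' N.mkQ
  let p : D' ⊗[R] M →ₗ[D'] D' ⊗[D] ((D ⊗[R] M) ⧸ N) := q ∘ₗ e.symm.toLinearMap
  have hp : Function.Surjective p :=
    (LinearMap.lTensor_surjective D' N.mkQ_surjective).comp e.symm.surjective
  haveI : Module.Flat D' (D' ⊗[D] ((D ⊗[R] M) ⧸ N)) := inferInstance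
  have hex := exact_lTensor_subtype D' N
  have hk : ∀ z : D' ⊗[D] ↥N, algebraMap R D' c • (N.subtype.lTensor D' z) = 0 := by
    intro z
    induction z with
    | zero => simp
    | tmul x n =>
      rw [LinearMap.lTensor_tmul, IsScalarTower.algebraMap_apply R D D', algebraMap_smul, ← tmul_smul,
        Submodule.subtype_apply, hN _ n.2, tmul_zero]
    | add y z hy hz => rw [map_add, smul_add, hy, hz, add_zero]
  have hkill : ∀ w, p w = 0 → algebraMap R D' c • w = 0 := by
    intro w hw
    obtain ⟨z, hz⟩ := (hex (e.symm w)).1 hw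
    apply e.symm.injective
    rw [LinearEquiv.map_smul, ← hz, hk, map_zero]
  have hker : LinearMap.ker p = FlatCA.powTorsion D' (algebraMap R D' a) (D' ⊗[R] M) := by
    ext w
    rw [LinearMap.mem_ker, RGBlowLib.mem_powTorsion]
    refine ⟨fun hw => ⟨1, ?_⟩, ?_⟩
    · obtain ⟨d, rfl⟩ := hca
      rw [pow_one, mul_comm, map_mul, mul_smul, hkill w hw, smul_zero]
    · rintro ⟨n, hn⟩
      have hreg : IsSMulRegular D' (algebraMap R D' a) :=
        IsSMulRegular.of_right_eq_zero_of_smul fun y hy => ha y hy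
      have hreg' : IsSMulRegular (D' ⊗[D] ((D ⊗[R] M) ⧸ N)) (algebraMap R D' a ^ n) :=
        (isSMulRegular_of_flat (X := D' ⊗[D] ((D ⊗[R] M) ⧸ N)) hreg).pow n
      refine hreg' ?_
      show algebraMap R D' a ^ n • p w = algebraMap R D' a ^ n • 0
      rw [← map_smul, hn, map_zero, smul_zero]
  exact Module.Flat.of_linearEquiv
    ((Submodule.quotEquivOfEq _ _ hker.symm).trans (p.quotKerEquivOfSurjective hp))

variable {R K : Type u} [CommRing R] [IsDomain R] [Field K] [Algebra R K] [IsFractionRing R K]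

/-- The affine blow-up algebra inside the fraction field. -/
def chartToK (I : Ideal R) (a : R) (ha : a ≠ 0) : ↥(BlowUp.affineAlgebra R I a) →ₐ[R] K :=
  (IsLocalization.Away.liftAlgHom (S := Localization.Away a) (f := Algebra.ofId R K) a
    (isUnit_iff_ne_zero.2 ((map_ne_zero_iff _ (IsFractionRing.injective R K)).2 ha))).comp
    (BlowUp.affineAlgebra R I a).val

theorem chartToK_injective (I : Ideal R) (a : R) (ha : a ≠ 0) :
    Function.Injective (chartToK (K := K) I a ha) := by
  let l := IsLocalization.Away.liftAlgHom (S := Localization.Away a) (f := Algebra.ofId R K) a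
    (isUnit_iff_ne_zero.2 ((map_ne_zero_iff _ (IsFractionRing.injective R K)).2 ha))
  have hl : Function.Injective l := by
    rw [injective_iff_map_eq_zero]
    intro z hz
    obtain ⟨r, s, rfl⟩ := IsLocalization.exists_mk'_eq (Submonoid.powers a) z
    have h1 := congrArg l (IsLocalization.mk'_spec (Localization.Away a) r s)
    rw [map_mul, hz, zero_mul, AlgHom.commutes] at h1
    rw [IsFractionRing.injective R K (h1.symm.trans (map_zero _).symm), IsLocalization.mk'_zero]
  intro x y h
  exact Subtype.ext (hl h)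

theorem chartToK_gen (I : Ideal R) (a : R) (ha : a ≠ 0) (x : R) (hx : x ∈ I) (y : K)
    (hy : y * algebraMap R K a = algebraMap R K x) :
    chartToK (K := K) I a ha ⟨IsLocalization.mk' (Localization.Away a) x ⟨a, Submonoid.mem_powers a⟩,
      Algebra.subset_adjoin ⟨x, hx, rfl⟩⟩ = y := by
  refine mul_right_cancel₀ ((map_ne_zero_iff _ (IsFractionRing.injective R K)).2 ha) ?_
  rw [hy, chartToK, AlgHom.comp_apply, Subalgebra.coe_val]
  let hu : IsUnit (algebraMap R K a) := isUnit_iff_ne_zero.2 ((map_ne_zero_iff _ (IsFractionRing.injective R K)).2 ha)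
  rw [← (IsLocalization.Away.liftAlgHom (S := Localization.Away a) (f := Algebra.ofId R K) a hu).commutes a,
    ← map_mul, IsLocalization.mk'_spec, AlgHom.commutes]

/-- The image of the chart lies in any subalgebra containing the quotients `x / a`. -/
theorem chartToK_range_le (I : Ideal R) (a : R) (ha : a ≠ 0) (T : Subalgebra R K)
    (h : ∀ x ∈ I, ∃ y ∈ T, y * algebraMap R K a = algebraMap R K x) :
    (chartToK (K := K) I a ha).range ≤ T := by
  rintro _ ⟨⟨z, hz⟩, rfl⟩
  induction hz using Algebra.adjoin_induction with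
  | mem z hz =>
    obtain ⟨x, hx, rfl⟩ := hz
    obtain ⟨y, hy, hyx⟩ := h x hx
    exact (chartToK_gen I a ha x hx y hyx).symm ▸ hy
  | algebraMap r =>
    show chartToK (K := K) I a ha (algebraMap R _ r) ∈ T
    rw [AlgHom.commutes]
    exact T.algebraMap_mem r
  | add z w hz hw h1 h2 =>
    show chartToK (K := K) I a ha (⟨z, hz⟩ + ⟨w, hw⟩) ∈ T
    rw [map_add]
    exact T.add_mem h1 h2
  | mul z w hz hw h1 h2 =>
    show chartToK (K := K) I a ha (⟨z, hz⟩ * ⟨w, hw⟩) ∈ T
    rw [map_mul]
    exact T.mul_mem h1 h2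

end Groth.Agent.ValFlattenLib
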