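import Groth.Agent.RGBlowLib.BaseChange
import Groth.Agent.FlatStage.AlgGlobal
import Groth.Agent.GrFlatLib.Main
import Groth.Agent.S0405
import Mathlib

/-!
# Flattening of a finite module along a valuation ring dominating the base

Torsion-free quotient over a valuation ring `A` between `R` and its fraction field is finitely presented,
hence descends to a finitely generated subalgebra of `A`.
-/

set_option autoImplicit false
set_option linter.style.haveILetI false
set_option backward.isDefEq.respectTransparency false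
set_option maxHeartbeats 4000000
set_option synthInstance.maxHeartbeats 400000

universe u

open TensorProduct

noncomputable section

namespace Groth.Agent.ValFlattenLib

open Groth.Agent.RGBlowLib

attribute [local instance] Algebra.TensorProduct.rightAlgebra

set_option linter.unusedSectionVars false

variable {R K : Type u} [CommRing R] [IsDomain R] [Field K] [Algebra R K] [IsFractionRing R K]

/-- Every element of `D` has a multiple, by a nonzero scalar, in the image of `R`. -/
def HasDenoms (R D : Type u) [CommRing R] [CommRing D] [Algebra R D] : Prop :=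
  ∀ d : D, ∃ c r : R, c ≠ 0 ∧ algebraMap R D c * d = algebraMap R D r

theorem hasDenoms_of_injective {D : Type u} [CommRing D] [Algebra R D] (j : D →ₐ[R] K)
    (hj : Function.Injective j) : HasDenoms R D := by
  intro d
  obtain ⟨r, s, hs, h⟩ := IsFractionRing.div_surjective R (j d)
  refine ⟨s, r, nonZeroDivisors.ne_zero hs, hj ?_⟩
  rw [map_mul, AlgHom.commutes, AlgHom.commutes, ← h, mul_div_cancel₀]
  exact IsFractionRing.to_map_ne_zero_of_mem_nonZeroDivisors hs

/-- Tensors over a ring with denominators have a multiple coming from the base. -/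
theorem exists_mul_tmul {D : Type u} [CommRing D] [Algebra R D] (hD : HasDenoms R D)
    {X : Type u} [AddCommGroup X] [Module R X] (z : D ⊗[R] X) :
    ∃ (c : R) (x : X), c ≠ 0 ∧ algebraMap R D c • z = (1 : D) ⊗ₜ x := by
  induction z with
  | zero => exact ⟨1, 0, one_ne_zero, by simp⟩
  | tmul d x =>
    obtain ⟨c, r, hc, h⟩ := hD d
    refine ⟨c, r • x, hc, ?_⟩
    rw [smul_tmul', smul_eq_mul, h, ← smul_tmul, Algebra.algebraMap_eq_smul_one]
  | add y z hy hz =>
    obtain ⟨c, x, hc, h⟩ := hy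
    obtain ⟨c', x', hc', h'⟩ := hz
    refine ⟨c * c', c' • x + c • x', mul_ne_zero hc hc', ?_⟩
    rw [smul_add, tmul_add, map_mul]
    congr 1
    · rw [mul_comm, mul_smul, h, algebraMap_smul, tmul_smul]
    · rw [mul_smul, h', algebraMap_smul, tmul_smul]

/-- An element of `M` whose image over a subring of the fraction field is torsion is torsion. -/
theorem exists_smul_eq_zero {A : Type u} [CommRing A] [Algebra R A] (j : A →ₐ[R] K) {M : Type u}
    [AddCommGroup M] [Module R M] (m : M) (h : ∃ c : R, c ≠ 0 ∧ algebraMap R A c • ((1 : A) ⊗ₜ[R] m) = 0) :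
    ∃ c : R, c ≠ 0 ∧ c • m = 0 := by
  obtain ⟨c, hc, h⟩ := h
  have h1 : j.toLinearMap.rTensor M (algebraMap R A c • ((1 : A) ⊗ₜ[R] m)) = 0 := by rw [h, map_zero]
  rw [algebraMap_smul, map_smul, LinearMap.rTensor_tmul, ← tmul_smul] at h1
  have h2 : TensorProduct.mk R K M 1 (c • m) = TensorProduct.mk R K M 1 0 := by
    simpa using h1
  obtain ⟨s, hs⟩ := IsLocalizedModule.exists_of_eq (S := nonZeroDivisors R) h2
  refine ⟨s.1 * c, mul_ne_zero (nonZeroDivisors.ne_zero s.2) hc, ?_⟩
  rw [smul_zero] at hs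
  rw [mul_smul]
  exact hs

/-- Scalars from `R` act on a base change through either algebra. -/
theorem algebraMap_smul_bc {R D P X : Type u} [CommRing R] [CommRing D] [Algebra R D] [CommRing P] [Algebra R P]
    [AddCommGroup X] [Module D X] [Module (D ⊗[R] P) X] [IsScalarTower D (D ⊗[R] P) X] (c : R) (x : X) :
    algebraMap R (D ⊗[R] P) c • x = algebraMap R D c • x := by
  rw [IsScalarTower.algebraMap_apply R D (D ⊗[R] P), algebraMap_smul]

/-- The elements of a module over an `R`-algebra killed by a nonzero element of `R`. -/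
def baseTorsion (R E X : Type u) [CommRing R] [IsDomain R] [CommRing E] [Algebra R E] [AddCommGroup X]
    [Module E X] : Submodule E X where
  carrier := {x | ∃ c : R, c ≠ 0 ∧ algebraMap R E c • x = 0}
  add_mem' := by
    rintro x y ⟨c, hc, h⟩ ⟨c', hc', h'⟩
    refine ⟨c * c', mul_ne_zero hc hc', ?_⟩
    rw [map_mul, smul_add, mul_smul, mul_smul, h', smul_zero, add_zero, smul_comm, h, smul_zero]
  zero_mem' := ⟨1, one_ne_zero, by simp⟩
  smul_mem' := by
    rintro e x ⟨c, hc, h⟩
    exact ⟨c, hc, by rw [smul_comm, h, smul_zero]⟩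

/-- A finite module over an algebra of finite type over a valuation ring `A` whose every element has a
denominator in `R` is flat over `A` once it has no `R`-torsion. -/
theorem flat_of_no_baseTorsion {A : Type u} [CommRing A] [IsDomain A] [ValuationRing A] [Algebra R A]
    (hA : HasDenoms R A) (hinj : Function.Injective (algebraMap R A)) {X : Type u} [AddCommGroup X] [Module A X]
    (h : ∀ (c : R) (x : X), c ≠ 0 → algebraMap R A c • x = 0 → x = 0) : Module.Flat A X := by
  rw [Module.Flat.flat_iff_torsion_eq_bot_of_isBezout, eq_bot_iff]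
  rintro x ⟨α, hα⟩
  rw [Submodule.mem_bot]
  obtain ⟨c, r, hc, hcr⟩ := hA (α : A)
  have hr : r ≠ 0 := by
    rintro rfl
    rw [map_zero] at hcr
    exact mul_ne_zero ((map_ne_zero_iff _ hinj).2 hc) (nonZeroDivisors.ne_zero α.2) hcr
  refine h r x hr ?_
  rw [← hcr, mul_smul]
  change algebraMap R A c • (α • x) = 0
  rw [hα, smul_zero]

/-- **Flattening over a finitely generated subalgebra.** -/
theorem exists_flat_quotient {A : Type u} [CommRing A] [IsDomain A] [ValuationRing A] [Algebra R A]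
    (j : A →ₐ[R] K) (hj : Function.Injective j) (P : Type u) [CommRing P] [Algebra R P]
    [Algebra.FinitePresentation R P] [Module.Flat R P] {M : Type u} [AddCommGroup M]
    [Module P M] [Module R M] [IsScalarTower R P M] [Module.Finite P M] :
    ∃ R₀ : Subalgebra R A, R₀.FG ∧ ∃ c : R, c ≠ 0 ∧ ∃ N : Submodule ↥R₀ (↥R₀ ⊗[R] M),
      Module.Flat ↥R₀ ((↥R₀ ⊗[R] M) ⧸ N) ∧ ∀ z ∈ N, algebraMap R ↥R₀ c • z = 0 := by
  classical
  obtain ⟨m, π, hπ⟩ := Module.Finite.exists_fin' P M
  let F := Fin m → P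
  have hA : HasDenoms R A := hasDenoms_of_injective j hj
  have hRA : Function.Injective (algebraMap R A) := by
    intro x y h
    apply IsFractionRing.injective R K
    rw [← j.commutes, ← j.commutes, h]
  -- the map of base changes induced by `π`
  let πD : ∀ (D : Type u) [CommRing D] [Algebra R D], BC R P F D →ₗ[D ⊗[R] P] BC R P M D :=
    fun D _ _ => AlgebraTensorModule.lTensor (D ⊗[R] P) (D ⊗[R] P) π
  have hπD : ∀ (D : Type u) [CommRing D] [Algebra R D], Function.Surjective (πD D) :=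
    fun D _ _ => LinearMap.lTensor_surjective (D ⊗[R] P) hπ
  have hπmap : ∀ {D D' : Type u} [CommRing D] [Algebra R D] [CommRing D'] [Algebra R D'] (φ : D →ₐ[R] D')
      (z : BC R P F D), πD D' (mapBC φ z) = mapBC φ (πD D z) := by
    intro D D' _ _ _ _ φ z
    induction z using TensorProduct.induction_on with
    | zero => simp
    | tmul x f => rfl
    | add x y hx hy => simp only [map_add, hx, hy]
  -- over the valuation ring
  let Tor : Submodule (A ⊗[R] P) (BC R P M A) := baseTorsion R (A ⊗[R] P) (BC R P M A)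
  let Mb := BC R P M A ⧸ Tor
  haveI : Module.Flat A Mb := by
    refine flat_of_no_baseTorsion hA hRA fun c x hc hx => ?_
    obtain ⟨x, rfl⟩ := Submodule.Quotient.mk_surjective Tor x
    rw [← algebraMap_smul_bc (P := P), ← Submodule.Quotient.mk_smul, Submodule.Quotient.mk_eq_zero] at hx
    obtain ⟨c', hc', h'⟩ := hx
    rw [Submodule.Quotient.mk_eq_zero]
    exact ⟨c' * c, mul_ne_zero hc' hc, by rw [map_mul, mul_smul]; exact h'⟩
  haveI : Algebra.FiniteType A (A ⊗[R] P) := inferInstance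
  haveI : Module.Finite (A ⊗[R] P) Mb := inferInstance
  haveI : Module.FinitePresentation (A ⊗[R] P) Mb := Groth.Agent.S0405.result (R := A)
  let qA : BC R P F A →ₗ[A ⊗[R] P] Mb := Tor.mkQ ∘ₗ πD A
  have hqA : Function.Surjective qA := Tor.mkQ_surjective.comp (hπD A)
  obtain ⟨r, hr⟩ := Module.FinitePresentation.fg_ker qA hqA
  -- lift the relations to a finitely generated subalgebra
  let Sys := Groth.Agent.GrFlatLib.subSys R A
  have hbot : (⊥ : Subalgebra R A).FG := Subalgebra.fg_bot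
  have hlift : ∀ t : Finset (BC R P F A), ∃ G : Subalgebra R A, G.FG ∧ ∃ κ : Finset (BC R P F ↥G),
      mapBC G.val '' (κ : Set (BC R P F ↥G)) = (t : Set (BC R P F A)) := by
    intro t
    induction t using Finset.induction with
    | empty => exact ⟨⊥, hbot, ∅, by simp⟩
    | @insert x t _ ih =>
      obtain ⟨G, hG, κ, hκ⟩ := ih
      obtain ⟨⟨G', hG'⟩, ⟨⟨f⟩⟩, y, hy⟩ := Sys.exists_lift ⟨G, hG⟩ (bcEquiv R P F A x)
      refine ⟨G', hG', insert ((bcEquiv R P F ↥G').symm y) (κ.image (mapBC (Subalgebra.inclusion f))), ?_⟩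
      rw [Finset.coe_insert, Set.image_insert_eq, Finset.coe_image, ← Set.image_comp, Finset.coe_insert]
      congr 1
      · rw [mapBC_bcEquiv_symm]
        exact (congrArg (bcEquiv R P F A).symm hy).trans ((bcEquiv R P F A).symm_apply_apply x)
      · rw [← hκ]
        refine Set.image_congr fun z _ => ?_
        show mapBC G'.val (mapBC (Subalgebra.inclusion f) z) = mapBC G.val z
        obtain ⟨w, rfl⟩ := (bcEquiv R P F _).symm.surjective z
        rw [mapBC_bcEquiv_symm, mapBC_bcEquiv_symm, mapBC_bcEquiv_symm, ← LinearMap.rTensor_comp_apply,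
          ← AlgHom.comp_toLinearMap]
        rfl
  obtain ⟨G, hG, κ, hκ⟩ := hlift r
  let ρ : ↥G →ₐ[R] A := G.val
  let Q₀ := BC R P F ↥G ⧸ Submodule.span (↥G ⊗[R] P) (κ : Set (BC R P F ↥G))
  haveI : Algebra.FiniteType R ↥G := (Subalgebra.fg_iff_finiteType G).1 hG
  haveI : Module.FinitePresentation (↥G ⊗[R] P) (BC R P F ↥G) := inferInstance
  haveI : Module.FinitePresentation (↥G ⊗[R] P) Q₀ :=
    Module.finitePresentation_of_surjective (Submodule.mkQ _) (Submodule.mkQ_surjective _)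
      (by rw [Submodule.ker_mkQ]; exact Submodule.fg_span κ.finite_toSet)
  haveI : Algebra.FinitePresentation ↥G (↥G ⊗[R] P) := inferInstance
  have hflatA : Module.Flat A (A ⊗[↥G] Q₀) := by
    obtain ⟨e⟩ := nonempty_quot_equiv (B := P) (M := F) ρ (κ : Set (BC R P F ↥G))
    have e' : (BC R P F A ⧸ Submodule.span (A ⊗[R] P) (mapBC ρ '' (κ : Set (BC R P F ↥G)))) ≃ₗ[A] Mb :=
      ((Submodule.quotEquivOfEq _ _ (by rw [← hr, ← hκ])).trans
        (qA.quotKerEquivOfSurjective hqA)).restrictScalars A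
    exact Module.Flat.of_linearEquiv (e.trans e')
  obtain ⟨⟨T₁, hT₁⟩, -, hflat⟩ := Groth.Agent.FlatStage.exists_flat_stage (A := ↥G) (B := ↥G ⊗[R] P) (M := Q₀)
    (R := A) (Groth.Agent.GrFlatLib.subSys ↥G A) ⟨⊥, Subalgebra.fg_bot⟩
    (Groth.Agent.GrFlatLib.subSys_dir ↥G A) hflatA
  let R₀ : Subalgebra R A := T₁.restrictScalars R
  haveI hft : Algebra.FiniteType R ↥T₁ := Groth.Agent.GrFlatLib.fg_trans' T₁ hT₁
  have hR₀ : R₀.FG := (Subalgebra.fg_iff_finiteType R₀).2 hft
  let φ : ↥G →ₐ[R] ↥R₀ := IsScalarTower.toAlgHom R ↥G ↥T₁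
  let κ' : Set (BC R P F ↥R₀) := mapBC φ '' (κ : Set (BC R P F ↥G))
  let S₀ : Submodule (↥R₀ ⊗[R] P) (BC R P F ↥R₀) := Submodule.span _ κ'
  let Q₁ := BC R P F ↥R₀ ⧸ S₀
  haveI hQ₁ : Module.Flat ↥R₀ Q₁ := by
    obtain ⟨e⟩ := nonempty_quot_equiv (B := P) (M := F) φ (κ : Set (BC R P F ↥G))
    letI : Algebra ↥G ↥R₀ := φ.toRingHom.toAlgebra
    have hflat' : Module.Flat ↥R₀ (↥R₀ ⊗[↥G] Q₀) := hflat
    exact Module.Flat.of_linearEquiv e.symm
  haveI : Module.Flat R F := Module.Flat.of_linearEquiv (TensorProduct.piScalarRight R R P (Fin m)).symm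
  let ι : ↥R₀ →ₐ[R] A := R₀.val
  have hι : ∀ z : BC R P F ↥G, mapBC ι (mapBC φ z) = mapBC ρ z := by
    intro z
    obtain ⟨w, rfl⟩ := (bcEquiv R P F _).symm.surjective z
    rw [mapBC_bcEquiv_symm, mapBC_bcEquiv_symm, mapBC_bcEquiv_symm, ← LinearMap.rTensor_comp_apply,
      ← AlgHom.comp_toLinearMap, show ι.comp φ = ρ from AlgHom.ext fun _ => rfl]
  have hR₀d : HasDenoms R ↥R₀ := hasDenoms_of_injective (j.comp ι) (hj.comp Subtype.val_injective)
  have hιinj : Function.Injective (mapBC (B := P) (M := F) ι) := by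
    intro x y h
    obtain ⟨x, rfl⟩ := (bcEquiv R P F _).symm.surjective x
    obtain ⟨y, rfl⟩ := (bcEquiv R P F _).symm.surjective y
    rw [mapBC_bcEquiv_symm, mapBC_bcEquiv_symm] at h
    exact congrArg _ (Module.Flat.rTensor_preserves_injective_linearMap ι.toLinearMap Subtype.val_injective
      ((bcEquiv R P F A).symm.injective h))
  -- the kernel of `π` over the stage lies in the span of the relations
  have hker : LinearMap.ker (πD ↥R₀) ≤ S₀ := by
    intro z hz
    rw [LinearMap.mem_ker] at hz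
    have hzA : mapBC ι z ∈ Submodule.span (A ⊗[R] P) (mapBC ρ '' (κ : Set (BC R P F ↥G))) := by
      have : mapBC ι z ∈ LinearMap.ker qA := by
        rw [LinearMap.mem_ker, LinearMap.comp_apply, hπmap, hz, map_zero, map_zero]
      rwa [← hr, ← hκ] at this
    have hstep : ∀ x ∈ Submodule.span (A ⊗[R] P) (mapBC ρ '' (κ : Set (BC R P F ↥G))),
        ∃ c : R, c ≠ 0 ∧ ∃ w ∈ S₀, algebraMap R A c • x = mapBC ι w := by
      intro x hx
      induction hx using Submodule.span_induction with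
      | mem x hx =>
        obtain ⟨k, hk, rfl⟩ := hx
        exact ⟨1, one_ne_zero, mapBC φ k, Submodule.subset_span ⟨k, hk, rfl⟩, by rw [map_one, one_smul, hι]⟩
      | zero => exact ⟨1, one_ne_zero, 0, zero_mem _, by simp⟩
      | add x y _ _ hx hy =>
        obtain ⟨c, hc, w, hw, h⟩ := hx
        obtain ⟨c', hc', w', hw', h'⟩ := hy
        refine ⟨c * c', mul_ne_zero hc hc', c' • w + c • w',
          add_mem (S₀.smul_of_tower_mem c' hw) (S₀.smul_of_tower_mem c hw'), ?_⟩
        rw [map_add, LinearMap.map_smul_of_tower, LinearMap.map_smul_of_tower, ← h, ← h', map_mul, smul_add]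
        congr 1
        · rw [mul_comm, mul_smul, algebraMap_smul]
        · rw [mul_smul, algebraMap_smul]
      | smul e x _ hx =>
        obtain ⟨c, hc, w, hw, h⟩ := hx
        obtain ⟨c', p, hc', he⟩ := exists_mul_tmul hA e
        refine ⟨c' * c, mul_ne_zero hc' hc, ((1 : ↥R₀) ⊗ₜ[R] p) • w, S₀.smul_mem _ hw, ?_⟩
        rw [mapBC_smul, ← h, map_mul]
        simp only [mapAlg, Algebra.TensorProduct.map_tmul, map_one, AlgHom.id_apply]
        rw [← he, mul_smul, smul_comm (algebraMap R A c) e x, smul_assoc]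
    obtain ⟨c, hc, w, hw, h⟩ := hstep _ hzA
    have hcz : c • z = w := hιinj (by rw [LinearMap.map_smul_of_tower, ← h, algebraMap_smul])
    have h0 : algebraMap R ↥R₀ c • (S₀.mkQ z) = 0 := by
      rw [algebraMap_smul, ← LinearMap.map_smul_of_tower, hcz, Submodule.mkQ_apply, Submodule.Quotient.mk_eq_zero]
      exact hw
    have hreg : IsSMulRegular Q₁ (algebraMap R ↥R₀ c) := by
      refine IsSMulRegular.of_right_eq_zero_of_smul fun q hq => ?_
      have : q ∈ Submodule.torsion ↥R₀ Q₁ :=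
        ⟨⟨algebraMap R ↥R₀ c, mem_nonZeroDivisors_of_ne_zero ((map_ne_zero_iff _
          fun x y hxy => hRA (congrArg Subtype.val hxy)).2 hc)⟩, hq⟩
      rwa [Module.Flat.torsion_eq_bot, Submodule.mem_bot] at this
    exact (Submodule.Quotient.mk_eq_zero S₀).1 (hreg (h0.trans (smul_zero _).symm))
  -- the relations become torsion over the stage
  have htor : ∀ k ∈ κ', ∃ c : R, c ≠ 0 ∧ algebraMap R ↥R₀ c • (bcEquiv R P M ↥R₀ (πD ↥R₀ k)) = 0 := by
    rintro _ ⟨k, hk, rfl⟩
    obtain ⟨c₁, x, hc₁, h₁⟩ := exists_mul_tmul hR₀d (bcEquiv R P M ↥R₀ (πD ↥R₀ (mapBC φ k)))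
    have hkA : πD A (mapBC ρ k) ∈ Tor := by
      have : mapBC ρ k ∈ LinearMap.ker qA := by
        rw [← hr, ← hκ]; exact Submodule.subset_span ⟨k, hk, rfl⟩
      exact (Submodule.Quotient.mk_eq_zero Tor).1 (LinearMap.mem_ker.1 this)
    obtain ⟨c₂, hc₂, h₂⟩ := hkA
    rw [algebraMap_smul_bc] at h₂
    have e : ι.toLinearMap.rTensor M (bcEquiv R P M ↥R₀ (πD ↥R₀ (mapBC φ k))) =
        bcEquiv R P M A (πD A (mapBC ρ k)) := by
      rw [← hι]
      simp only [hπmap]
      apply (bcEquiv R P M A).symm.injective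
      rw [← mapBC_bcEquiv_symm, LinearEquiv.symm_apply_apply, LinearEquiv.symm_apply_apply]
    have h3 : algebraMap R A c₂ • ((1 : A) ⊗ₜ[R] x) = 0 := by
      have hh := congrArg (ι.toLinearMap.rTensor M) h₁
      rw [LinearMap.rTensor_tmul, algebraMap_smul, map_smul, e] at hh
      rw [show ((1 : A) ⊗ₜ[R] x) = ι.toLinearMap (1 : ↥R₀) ⊗ₜ[R] x by simp, ← hh, smul_comm, ← map_smul, h₂,
        map_zero, smul_zero]
    obtain ⟨c₃, hc₃, h₃⟩ := exists_smul_eq_zero j x ⟨c₂, hc₂, h3⟩
    refine ⟨c₃ * c₁, mul_ne_zero hc₃ hc₁, ?_⟩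
    rw [map_mul, mul_smul, h₁, algebraMap_smul, ← tmul_smul, h₃, tmul_zero]
  have hκf : κ'.Finite := κ.finite_toSet.image _
  choose cf hcf0 hcf using htor
  let cl : R := ∏ k ∈ hκf.toFinset.attach, cf k.1 (hκf.mem_toFinset.1 k.2)
  have hcl : cl ≠ 0 := Finset.prod_ne_zero_iff.2 fun k _ => hcf0 _ _
  let ψ : BC R P F ↥R₀ →ₗ[↥R₀] ↥R₀ ⊗[R] M :=
    (bcEquiv R P M ↥R₀).toLinearMap ∘ₗ (πD ↥R₀).restrictScalars ↥R₀
  have hψ : Function.Surjective ψ := (bcEquiv R P M ↥R₀).surjective.comp (hπD ↥R₀)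
  let N : Submodule ↥R₀ (↥R₀ ⊗[R] M) := (S₀.restrictScalars ↥R₀).map ψ
  refine ⟨R₀, hR₀, cl, hcl, N, ?_, ?_⟩
  · have hk2 : LinearMap.ker (N.mkQ ∘ₗ ψ) = S₀.restrictScalars ↥R₀ := by
      rw [LinearMap.ker_comp, Submodule.ker_mkQ, Submodule.comap_map_eq, sup_eq_left]
      intro z hz
      refine hker (LinearMap.mem_ker.2 ((bcEquiv R P M ↥R₀).injective ?_))
      rw [map_zero]
      exact LinearMap.mem_ker.1 hz
    exact Module.Flat.of_linearEquiv (((Submodule.Quotient.restrictScalarsEquiv ↥R₀ S₀).symm.trans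
      (Submodule.quotEquivOfEq _ _ hk2.symm)).trans
      ((N.mkQ ∘ₗ ψ).quotKerEquivOfSurjective (N.mkQ_surjective.comp hψ))).symm
  · rintro _ ⟨z, hz, rfl⟩
    have hz' : πD ↥R₀ z ∈ Submodule.span (↥R₀ ⊗[R] P) (πD ↥R₀ '' κ') := by
      rw [Submodule.span_image]; exact ⟨z, hz, rfl⟩
    have hall : ∀ x ∈ Submodule.span (↥R₀ ⊗[R] P) (πD ↥R₀ '' κ'),
        algebraMap R (↥R₀ ⊗[R] P) cl • x = 0 := by
      intro x hx
      have : Submodule.span (↥R₀ ⊗[R] P) (πD ↥R₀ '' κ') ≤
          Submodule.torsionBy (↥R₀ ⊗[R] P) _ (algebraMap R (↥R₀ ⊗[R] P) cl) := Submodule.span_le.2 (by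
        rintro _ ⟨k, hk, rfl⟩
        rw [SetLike.mem_coe, Submodule.mem_torsionBy_iff]
        have hd : cf k hk ∣ cl :=
          Finset.dvd_prod_of_mem (fun k : {x // x ∈ hκf.toFinset} => cf k.1 (hκf.mem_toFinset.1 k.2))
            (Finset.mem_attach _ ⟨k, hκf.mem_toFinset.2 hk⟩)
        obtain ⟨d, hd⟩ := hd
        apply (bcEquiv R P M ↥R₀).injective
        rw [algebraMap_smul_bc, map_smul, map_zero, hd,
          mul_comm, map_mul, mul_smul, hcf, smul_zero])
      exact (Submodule.mem_torsionBy_iff _ _).1 (this hx)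
    show algebraMap R ↥R₀ cl • bcEquiv R P M ↥R₀ (πD ↥R₀ z) = 0
    have h' : algebraMap R ↥R₀ cl • πD ↥R₀ z = 0 :=
      (algebraMap_smul_bc (P := P) cl (πD ↥R₀ z)).symm.trans (hall _ hz')
    rw [← LinearEquiv.map_smul, h', map_zero]

end Groth.Agent.ValFlattenLib
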